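/-
Saturated fusion systems over abelian groups: every map extends to an automorphism of the whole group,
and a quasisimple system is never one of them.
-/
import Cfsg.Agent.Fusion.Realized
import Cfsg.Agent.Fusion.Saturation
import Cfsg.Agent.FusionFactor.ImageSaturated
import Cfsg.Prelude.Def_FusionComponents

set_option autoImplicit false

namespace CfsgLib.FusionAbelian

open Cfsg Cfsg.FusionSystem CfsgLib.Fusion

variable {Ω : Type*} [Group Ω] {S : Subgroup Ω} [Finite S] {p : ℕ} [Fact p.Prime]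
  {F : FusionSystem S}

theorem centralizerIn_eq (hab : ∀ a ∈ S, ∀ b ∈ S, a * b = b * a) {P : Subgroup Ω} (hP : P ≤ S) :
    centralizerIn S P = S :=
  le_antisymm inf_le_left (le_inf le_rfl fun g hg => Subgroup.mem_centralizer_iff.2 fun x hx =>
    hab x (hP hx) g hg)

/-- In a saturated system over an abelian group every map extends to an automorphism of the whole. -/
theorem exists_aut_extension (hS : IsPGroup p S) (hF : F.IsSaturated p)
    (hab : ∀ a ∈ S, ∀ b ∈ S, a * b = b * a) {P : Subgroup Ω} {φ : P →* Ω} (hφ : φ ∈ F.Hom P) :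
    ∃ α ∈ F.autGroup S, ∀ (x : P) (hx : (x : Ω) ∈ S), φ x = ((α ⟨x, hx⟩ : S) : Ω) := by
  have hQ : φ.range ≤ S := range_le hφ
  have hfc : F.IsFullyCentralized φ.range := ⟨hQ, fun R hR => by
    rw [centralizerIn_eq hab hQ, centralizerIn_eq hab (le_of_isConj_right hR)]⟩
  obtain ⟨ψ, hψ, hag⟩ := (receptive_of_fullyCentralized hS hF hfc).2 P φ hφ rfl
  have hle : S ≤ extender S P φ := (centralizerIn_eq hab (le_left hφ)).ge.trans
    (centralizerIn_le_extender φ)
  set χ := restrictHom ψ hle with hχ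
  have hχm : χ ∈ F.Hom S := restrict_mem hψ hle
  obtain ⟨e, he, hee⟩ := exists_iso hχm (eq_S_of_isConj (⟨χ, hχm, rfl⟩ : F.IsConj S χ.range))
  refine ⟨e, IsIso.mem_autGroup he, fun x hx => ?_⟩
  rw [hee ⟨x, hx⟩]
  exact (hag x x.2 (hle hx)).symm

theorem mem_center_apply {P : Subgroup Ω} {φ : P →* Ω} (hφ : φ ∈ F.Hom P) (x : P)
    (hx : (x : Ω) ∈ F.center) : φ x = x := by
  obtain ⟨ψ, -, h1, h2⟩ := (CfsgLib.FusionFactor.isCentral_center F).2 P φ hφ
  rw [← h1 x]
  exact h2 ⟨x, hx⟩

/-- A quasisimple system lives on a nonabelian group. -/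
theorem not_commutative_of_quasisimple (hS : IsPGroup p S) (hq : F.Quasisimple p) :
    ¬ IsMulCommutative S := by
  intro hab'
  have hab : ∀ a ∈ S, ∀ b ∈ S, a * b = b * a := fun a ha b hb =>
    congrArg Subtype.val (hab'.is_comm.comm (⟨a, ha⟩ : S) ⟨b, hb⟩)
  obtain ⟨hF, hhyp, hfac⟩ := hq
  have hZS : F.center ≤ S := (CfsgLib.FusionFactor.isCentral_center F).1
  have hZc : F.StronglyClosed F.center :=
    ⟨hZS, fun R hR φ hφ x => (mem_center_apply hφ x (hR x.2)).symm ▸ hR x.2⟩
  obtain ⟨E, hE⟩ := CfsgLib.FusionFactor.exists_factorSystem_quotient F F.center hZc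
  obtain ⟨hEs, hne, hsimple⟩ := hfac E hE
  set Q := S ⧸ (F.center).subgroupOf S
  have hQab : ∀ a b : Q, a * b = b * a := fun a b => by
    obtain ⟨x, rfl⟩ := QuotientGroup.mk_surjective a
    obtain ⟨y, rfl⟩ := QuotientGroup.mk_surjective b
    rw [← QuotientGroup.mk_mul, ← QuotientGroup.mk_mul, hab'.is_comm.comm x y]
  have hQp : IsPGroup p (⊤ : Subgroup Q) := (hS.to_quotient _).to_subgroup _
  let I : FusionSystem (⊤ : Subgroup Q) := fusionSystemOfSubgroup ⊤ ⊤ le_rfl
  have hIid : ∀ (P : Subgroup Q) (φ : P →* Q), φ ∈ I.Hom P → ∀ x : P, φ x = x := by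
    rintro P φ ⟨-, -, g, -, hg⟩ x
    rw [hg x, hQab g, mul_inv_cancel_right]
  have hIreal : I.IsRealizedBy (MonoidHom.id (⊤ : Subgroup Q)) := by
    refine ⟨Function.injective_id, fun P hP φ hφ => ⟨?_, ?_⟩⟩
    · rintro ⟨-, -, g, hg, he⟩
      exact ⟨⟨g, hg⟩, fun x => Subtype.ext (he x)⟩
    · rintro ⟨g, hg⟩
      exact ⟨hP, hφ, g, g.2, fun x => congrArg Subtype.val (hg x)⟩
  have hIs : I.IsSaturated p :=
    isSaturated_of_realized hIreal
      ((hQp.to_subgroup (⊤ : Subgroup (⊤ : Subgroup Q))).toSylow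
        (by rw [Subgroup.index_top]; exact (Fact.out (p := p.Prime)).not_dvd_one))
      (by rw [MonoidHom.range_eq_top.2 Function.surjective_id]; rfl)
  have hI : I.IsNormalIn E p := by
    refine ⟨⟨hIs, hEs, ⟨fun P φ hφ => ?_, ⟨le_rfl, fun R _ φ _ x => Subgroup.mem_top _⟩,
      fun P hPT φ hφ α _ => ?_, fun P hP φ hφ => ?_⟩⟩, fun α hα => ?_⟩
    · rw [show φ = P.subtype from MonoidHom.ext (hIid P φ hφ)]
      exact subtype_mem le_top
    · refine ⟨Subgroup.subtype _, subtype_mem le_top, fun x hφx hαx => ?_⟩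
      show ((α ⟨x, hPT x.2⟩ : (⊤ : Subgroup Q)) : Q) = _
      congr 2
      exact Subtype.ext (hIid P φ hφ x).symm
    · obtain ⟨α, hα, he⟩ := exists_aut_extension hQp hEs (fun a _ b _ => hQab a b) hφ
      exact ⟨α, hα, P.subtype, subtype_mem le_top, fun x hx => he x hx⟩
    · have hα1 : α = 1 := by
        have : I.autGroup ⊤ ≤ (⊥ : Subgroup (MulAut (⊤ : Subgroup Q))) := by
          refine (Subgroup.closure_le _).2 fun β hβ => ?_
          exact MulEquiv.ext fun x => Subtype.ext (hIid _ _ hβ x)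
        exact Subgroup.mem_bot.1 (this hα)
      refine ⟨1, one_mem _, fun x => by rw [hα1]; rfl, fun c _ => ?_⟩
      rw [MulAut.one_apply, inv_mul_cancel]
      exact one_mem _
  rcases hsimple ⊤ I hI with h | ⟨-, hIE⟩
  · exact hne h
  -- every automorphism of `S` in the system acts trivially modulo the centre
  have hmod : ∀ α : MulAut S, α ∈ F.autGroup S → ∀ x : S, ((x⁻¹ * α x : S) : Ω) ∈ F.center := by
    intro α hα
    have hm : S.subtype.comp α.toMonoidHom ∈ F.Hom S := (mem_autGroup_iff le_rfl).1 hα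
    set θ := QuotientGroup.mk' ((F.center).subgroupOf S)
    have hpre : preimageAlong θ (⊤ : Subgroup Q) = S := by
      rw [preimageAlong, Subgroup.comap_top, ← MonoidHom.range_eq_map, Subgroup.range_subtype]
    obtain ⟨φ', hφ'⟩ := CfsgLib.FusionFactor.exists_induced (P' := (⊤ : Subgroup Q)) (θ := θ)
      (ψ := S.subtype.comp α.toMonoidHom) le_rfl (fun x => (α x).2) (fun _ => Subgroup.mem_top _)
      (fun y => by
        obtain ⟨x, hx⟩ := QuotientGroup.mk'_surjective ((F.center).subgroupOf S) (y : Q)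
        exact ⟨x, hx⟩)
      (fun x hx => by
        rw [QuotientGroup.mk'_apply, QuotientGroup.eq_one_iff, Subgroup.mem_subgroupOf] at hx ⊢
        show ((α x : S) : Ω) ∈ _
        have := mem_center_apply hm x hx
        change ((α x : S) : Ω) = x at this
        exact this.symm ▸ hx)
    have hφE : φ' ∈ E.Hom ⊤ := (hE.2.2.2 ⊤ φ').2 ⟨le_rfl, by
      rw [hpre]; exact ⟨_, hm, hφ'⟩⟩
    rw [← hIE] at hφE
    intro x
    obtain ⟨hP, hφ, hP', he⟩ := hφ'
    have h1 := (he x).symm.trans (hIid _ _ hφE _)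
    exact Subgroup.mem_subgroupOf.1 (QuotientGroup.eq.1 h1.symm)
  -- hence it has `p`-power order, and so is trivial
  have htriv : F.autGroup S = ⊥ := by
    obtain ⟨R, hR, hauto, -⟩ := hF S le_rfl
    rw [eq_S_of_isConj hR] at hauto
    obtain ⟨e, he⟩ := IsPGroup.iff_card.1 hS
    have hp : IsPGroup p (F.autGroup S) := by
      rintro ⟨α, hα⟩
      refine ⟨e, Subtype.ext (MulEquiv.ext fun x => ?_)⟩
      have hfix : ∀ z : S, (z : Ω) ∈ F.center → α z = z := fun z hz =>
        Subtype.ext (mem_center_apply ((mem_autGroup_iff le_rfl).1 hα) z hz)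
      have hpow : ∀ n : ℕ, (α ^ n) x = x * (x⁻¹ * α x) ^ n := by
        intro n
        induction n with
        | zero => simp
        | succ n ih =>
          rw [pow_succ', MulAut.mul_apply, ih, map_mul, map_pow, hfix _ (hmod α hα x), pow_succ',
            ← mul_assoc, ← mul_assoc, mul_inv_cancel, one_mul]
      show (α ^ p ^ e) x = x
      rw [hpow, ← he, pow_card_eq_one', mul_one]
    have hbot : autInducedBy S S = (⊥ : Subgroup (MulAut S)) := by
      rw [autInducedBy, eq_bot_iff, Subgroup.closure_le]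
      rintro α ⟨g, hg, h⟩
      exact MulEquiv.ext fun x => Subtype.ext (by
        rw [h x, hab g hg x x.2, mul_inv_cancel_right]; rfl)
    rw [← hbot]
    exact eq_autInducedBy_of_le hauto le_rfl hp (by rw [hbot]; exact bot_le)
  have hS1 : S = ⊥ := by
    rw [eq_bot_iff]
    conv_lhs => rw [← hhyp]
    refine (Subgroup.closure_le _).2 ?_
    rintro y ⟨P, α, x, hP, -, rfl⟩
    obtain ⟨β, hβ, he⟩ := exists_aut_extension hS hF hab ((mem_autGroup_iff hP).1 α.2)
    rw [htriv, Subgroup.mem_bot] at hβ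
    have := he x (hP x.2)
    rw [hβ, MulAut.one_apply] at this
    show (x : Ω)⁻¹ * ((α : MulAut P) x : Ω) ∈ (⊥ : Subgroup Ω)
    rw [Subgroup.mem_bot, inv_mul_eq_one]
    exact this.symm
  refine hne (eq_bot_iff.2 fun a _ => ?_)
  obtain ⟨x, rfl⟩ := QuotientGroup.mk_surjective a
  rw [Subgroup.mem_bot, show x = 1 from Subtype.ext (Subgroup.mem_bot.1 (hS1.le x.2))]
  rfl

end CfsgLib.FusionAbelian
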